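import Groth.Agent.TrivLocusLib.Piece
import Groth.Agent.MonoFibLib.MultTypeLft

/-!
The fibrewise trivial locus of a homomorphism from a group of multiplicative type of finite type.
-/

set_option autoImplicit false

noncomputable section

universe u

open CategoryTheory CategoryTheory.Limits MonoidalCategory CartesianMonoidalCategory AlgebraicGeometry CoactBr
open scoped MonObj TensorProduct

namespace Groth.Agent.TrivLocus

open Groth.Agent.FreeAct (DA)

variable {S : Scheme.{u}} {H G : Over S} [GrpObj H] [GrpObj G] {u : H ⟶ G}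

theorem eqFinPres_of_lft [LocallyOfFiniteType G.hom] : EqFinPres u := by
  haveI : LocallyOfFinitePresentation (lift (𝟙 G) (𝟙 G)).left := by
    show LocallyOfFinitePresentation (pullback.diagonal G.hom)
    exact AlgSpLib.lfp_diagonal G.hom
  exact (inferInstance : LocallyOfFinitePresentation (pullback.fst (lift u 1).left (lift (𝟙 G) (𝟙 G)).left))

theorem eqFinPres_of_noetherian [IsLocallyNoetherian S] [IsSeparated G.hom] (hH : SGA3x.IsMultTypeFT H) :
    EqFinPres u := by
  haveI := MonoFib.lft_of_isMultTypeFT hH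
  haveI : IsLocallyNoetherian H.left := LocallyOfFiniteType.isLocallyNoetherian H.hom
  haveI : IsClosedImmersion (lift (𝟙 G) (𝟙 G)).left := by
    show IsClosedImmersion (pullback.diagonal G.hom)
    infer_instance
  haveI : IsClosedImmersion (pullback.fst (lift u 1).left (lift (𝟙 G) (𝟙 G)).left) := inferInstance
  haveI : LocallyOfFiniteType (pullback.fst (lift u 1).left (lift (𝟙 G) (𝟙 G)).left) := inferInstance
  show LocallyOfFinitePresentation _
  exact LocallyOfFinitePresentation.iff_locallyOfFiniteType.2 inferInstance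

variable [IsSeparated G.hom] [IsMonHom u]

/-- A split piece: an idempotent describing the points of the trivial locus. -/
theorem exists_piece (heq : EqFinPres u) {R : Type u} [CommRing R] {M : Type} [AddCommGroup M] {U : Scheme.{u}}
    {g : U ⟶ S} (e : Grp.mk (Red.bc g H) ≅ Grp.mk (Red.DS U M)) (j : Spec (CommRingCat.of R) ⟶ U)
    (p : Spec (CommRingCat.of R) ⟶ S) (hp : j ≫ g = p) :
    ∃ ε : R, (∀ t : Spec (CommRingCat.of R),
      Triv u (S.fromSpecResidueField (p t)) ↔ t ∈ (PrimeSpectrum.basicOpen (1 - ε) : Set (PrimeSpectrum R))) ∧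
      IsIdempotentElem ε ∧
      Triv u (Spec.map (CommRingCat.ofHom (algebraMap R (Localization.Away (1 - ε)))) ≫ p) := by
  obtain ⟨w, hw⟩ := MultLift.exists_split_iso e j p hp
  haveI := hw
  obtain ⟨ε, hε, hεT⟩ := exists_idem heq p w (fun I =>
    MultLift.exists_split_iso e (Spec.map (CommRingCat.ofHom (Ideal.Quotient.mk I)) ≫ j) _
      (by rw [Category.assoc, hp]))
  refine ⟨ε, fun t => ?_, hε, ?_⟩
  · let q : PrimeSpectrum R := t
    let F := q.asIdeal.ResidueField
    have h1 := hεT F (algebraMap R F)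
    rw [triv_field_iff] at h1
    have hpt : (Spec.map (CommRingCat.ofHom (algebraMap R F)) ≫ p) (IsLocalRing.closedPoint F) = p t := by
      rw [Scheme.Hom.comp_apply]
      refine congrArg (fun b => p b) (PrimeSpectrum.ext ?_)
      show Ideal.comap (algebraMap R F) (IsLocalRing.maximalIdeal F) = q.asIdeal
      rw [IsLocalRing.isField_iff_maximalIdeal_eq.1 (Field.toIsField F)]
      exact Ideal.ker_algebraMap_residueField _
    rw [hpt] at h1
    rw [h1, Ideal.algebraMap_residueField_eq_zero]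
    show ε ∈ q.asIdeal ↔ q ∈ PrimeSpectrum.basicOpen (1 - ε)
    rw [PrimeSpectrum.mem_basicOpen]
    constructor
    · intro h h'
      exact q.isPrime.ne_top ((Ideal.eq_top_iff_one _).2 (by simpa using add_mem h' h))
    · intro h
      rcases q.isPrime.mem_or_mem (show ε * (1 - ε) ∈ q.asIdeal by
        rw [mul_sub, mul_one, hε.eq, sub_self]; exact zero_mem _) with h' | h'
      · exact h'
      · exact absurd h' h
  · refine (hεT _ _).2 ?_
    have hu : IsUnit (algebraMap R (Localization.Away (1 - ε)) (1 - ε)) :=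
      IsLocalization.Away.algebraMap_isUnit _
    refine (hu.mul_left_eq_zero).1 ?_
    rw [← map_mul, mul_sub, mul_one, hε.eq, sub_self, map_zero]

omit [GrpObj H] [GrpObj G] [IsSeparated G.hom] [IsMonHom u] in
/-- Subsets with clopen preimage under an fpqc covering are clopen. -/
theorem isClopen_of_preimage {S' : Scheme.{u}} (f : S' ⟶ S) [Flat f]
    (hcov : ∀ V : S.Opens, IsAffineOpen V → ∃ W : S'.Opens, IsCompact (W : Set S') ∧ f.base '' (W : Set S') = (V : Set S))
    {W₀ : Set S} (hclop : IsClopen (f ⁻¹' W₀)) : IsClopen W₀ := by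
  have hloc' : ∀ V : S.Opens, IsAffineOpen V → IsClopen (V.ι ⁻¹' W₀) := by
    intro V hV
    obtain ⟨W, hW, hWV⟩ := hcov V hV
    have hle : W ≤ f ⁻¹ᵁ V := fun x hx => by
      show f.base x ∈ (V : Set S)
      rw [← hWV]
      exact ⟨x, hx, rfl⟩
    let g : (W : Scheme.{u}) ⟶ V := f.resLE V W hle
    haveI : Flat g := by
      haveI : Flat (g ≫ V.ι) := by
        rw [Scheme.Hom.resLE_comp_ι]; infer_instance
      exact MorphismProperty.of_postcomp (W' := @IsOpenImmersion) @Flat g V.ι inferInstance inferInstance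
    have hg : ∀ x : (W : Scheme.{u}), V.ι (g x) = f (W.ι x) := fun x => by
      rw [← Scheme.Hom.comp_apply, ← Scheme.Hom.comp_apply, Scheme.Hom.resLE_comp_ι]
    haveI : Surjective g := ⟨fun v => by
      have hv : V.ι v ∈ f.base '' (W : Set S') := by rw [hWV]; exact v.2
      obtain ⟨x, hx, hxv⟩ := hv
      exact ⟨⟨x, hx⟩, V.ι.isOpenEmbedding.injective ((hg ⟨x, hx⟩).trans hxv)⟩⟩
    haveI : CompactSpace (W : Scheme.{u}) := isCompact_iff_compactSpace.1 hW
    haveI : IsAffine (V : Scheme.{u}) := hV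
    haveI : QuasiCompact g := quasiCompact_iff_compactSpace g |>.2 inferInstance
    have hq := Flat.isQuotientMap_of_surjective g
    have h1 : g ⁻¹' (V.ι ⁻¹' W₀) = W.ι ⁻¹' (f ⁻¹' W₀) := Set.ext fun x => by
      simp only [Set.mem_preimage, hg]
    have h2 : IsClopen (g ⁻¹' (V.ι ⁻¹' W₀)) := h1 ▸ hclop.preimage W.ι.continuous
    exact ⟨hq.isClosed_preimage.1 h2.isClosed, hq.isOpen_preimage.1 h2.isOpen⟩
  refine ⟨isOpen_compl_iff.1 (isOpen_iff_forall_mem_open.2 fun y hy => ?_),
    isOpen_iff_forall_mem_open.2 fun y hy => ?_⟩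
  · obtain ⟨V, hV, hyV, -⟩ := exists_isAffineOpen_mem_and_subset (X := S) (x := y) (U := ⊤) trivial
    exact ⟨V.ι '' (V.ι ⁻¹' W₀)ᶜ, by rintro _ ⟨z, hz, rfl⟩; exact hz,
      V.ι.isOpenEmbedding.isOpenMap _ (hloc' V hV).isClosed.isOpen_compl, ⟨y, hyV⟩, hy, rfl⟩
  · obtain ⟨V, hV, hyV, -⟩ := exists_isAffineOpen_mem_and_subset (X := S) (x := y) (U := ⊤) trivial
    exact ⟨V.ι '' (V.ι ⁻¹' W₀), by rintro _ ⟨z, hz, rfl⟩; exact hz,
      V.ι.isOpenEmbedding.isOpenMap _ (hloc' V hV).isOpen, ⟨y, hyV⟩, hy, rfl⟩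

set_option maxHeartbeats 1000000 in
/-- The fibrewise trivial locus is clopen and `u` is trivial over it. -/
theorem exists_locus (hH : SGA3x.IsMultTypeFT H) (heq : EqFinPres u) :
    ∃ O : S.Opens, IsClosed (O : Set S) ∧ (∀ s : S, s ∈ O ↔ Triv u (S.fromSpecResidueField s)) ∧ Triv u O.ι := by
  obtain ⟨S', f, hflat, hsurj, hcov, hloc⟩ := hH
  haveI := hflat
  haveI := hsurj
  choose U hxU M _ _ hiso using hloc
  have hex : ∀ x : S', ∃ T : S'.Opens, IsAffineOpen T ∧ x ∈ T ∧ T ≤ U x := fun x =>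
    exists_isAffineOpen_mem_and_subset (X := S') (x := x) (hxU x)
  choose T hTaff hxT hTU using hex
  have hpiece : ∀ x : S', ∃ (R : Type u) (_ : CommRing R) (ι' : Spec (CommRingCat.of R) ⟶ S') (ε : R),
      IsOpenImmersion ι' ∧ x ∈ Set.range ι' ∧
      (∀ t, Triv u (S.fromSpecResidueField (f (ι' t))) ↔ t ∈ (PrimeSpectrum.basicOpen (1 - ε) : Set (PrimeSpectrum R))) ∧
      IsIdempotentElem ε ∧
      Triv u (Spec.map (CommRingCat.ofHom (algebraMap R (Localization.Away (1 - ε)))) ≫ ι' ≫ f) := by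
    intro x
    haveI : IsAffine (T x : Scheme.{u}) := hTaff x
    obtain ⟨e⟩ := hiso x
    let i : Spec (CommRingCat.of Γ((T x : Scheme.{u}), ⊤)) ⟶ (T x : Scheme.{u}) := (T x : Scheme.{u}).isoSpec.inv
    obtain ⟨ε, h1, h2, h3⟩ := exists_piece heq e (i ≫ S'.homOfLE (hTU x)) (i ≫ (T x).ι ≫ f) (by
      rw [Category.assoc, Scheme.homOfLE_ι_assoc])
    refine ⟨_, inferInstance, i ≫ (T x).ι, ε, ?_, ?_, fun t => ?_, h2, ?_⟩
    · show IsOpenImmersion ((T x : Scheme.{u}).isoSpec.inv ≫ (T x).ι)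
      infer_instance
    · obtain ⟨a, ha⟩ := (T x : Scheme.{u}).isoSpec.inv.surjective ⟨x, hxT x⟩
      refine ⟨a, ?_⟩
      show ((T x : Scheme.{u}).isoSpec.inv ≫ (T x).ι) a = x
      rw [Scheme.Hom.comp_apply, ha]
      rfl
    · rw [← h1 t]
      rfl
    · rw [Category.assoc]
      exact h3
  choose R _ ι' ε hopen hmem hpts hidem htriv using hpiece
  let W₀ : Set S := {s | Triv u (S.fromSpecResidueField s)}
  have hclop : IsClopen (f ⁻¹' W₀) := by
    have hkey : ∀ x : S', ∃ O : Set S', IsOpen O ∧ x ∈ O ∧ ((O ⊆ f ⁻¹' W₀) ∨ (O ⊆ (f ⁻¹' W₀)ᶜ)) := by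
      intro x
      haveI := hopen x
      obtain ⟨a, ha⟩ := hmem x
      let B : Set (PrimeSpectrum (R x)) := PrimeSpectrum.basicOpen (1 - ε x)
      by_cases haB : a ∈ B
      · refine ⟨ι' x '' B, (ι' x).isOpenEmbedding.isOpenMap _ (PrimeSpectrum.basicOpen (1 - ε x)).isOpen,
          ⟨a, haB, ha⟩, Or.inl ?_⟩
        rintro _ ⟨b, hb, rfl⟩
        exact (hpts x b).2 hb
      · have hB : IsClosed B := by
          refine ⟨?_⟩
          suffices h : Bᶜ = (PrimeSpectrum.basicOpen (ε x) : Set (PrimeSpectrum (R x))) by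
            exact h ▸ (PrimeSpectrum.basicOpen (ε x)).isOpen
          refine Set.ext fun q => ?_
          simp only [B, Set.mem_compl_iff, SetLike.mem_coe, PrimeSpectrum.mem_basicOpen, not_not]
          constructor
          · intro hq h
            exact q.isPrime.ne_top ((Ideal.eq_top_iff_one _).2 (by simpa using add_mem hq h))
          · intro hq
            rcases q.isPrime.mem_or_mem (show ε x * (1 - ε x) ∈ q.asIdeal by
              rw [mul_sub, mul_one, (hidem x).eq, sub_self]; exact zero_mem _) with h | h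
            · exact absurd h hq
            · exact h
        refine ⟨ι' x '' Bᶜ, (ι' x).isOpenEmbedding.isOpenMap _ hB.isOpen_compl, ⟨a, haB, ha⟩, Or.inr ?_⟩
        rintro _ ⟨b, hb, rfl⟩
        exact fun h => hb ((hpts x b).1 h)
    refine ⟨isOpen_compl_iff.1 (isOpen_iff_forall_mem_open.2 fun y hy => ?_),
      isOpen_iff_forall_mem_open.2 fun y hy => ?_⟩
    · obtain ⟨O, hO, hyO, h | h⟩ := hkey y
      · exact absurd (h hyO) hy
      · exact ⟨O, h, hO, hyO⟩
    · obtain ⟨O, hO, hyO, h | h⟩ := hkey y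
      · exact ⟨O, h, hO, hyO⟩
      · exact absurd hy (h hyO)
  have hW₀ : IsClopen W₀ := isClopen_of_preimage f hcov hclop
  let O : S.Opens := ⟨W₀, hW₀.isOpen⟩
  refine ⟨O, hW₀.isClosed, fun s => Iff.rfl, ?_⟩
  let X' := {x : S' // f x ∈ W₀}
  let L : X' → Scheme.{u} := fun x => Spec (CommRingCat.of (Localization.Away (1 - ε x.1)))
  let l : ∀ x : X', L x ⟶ S := fun x =>
    Spec.map (CommRingCat.ofHom (algebraMap (R x.1) (Localization.Away (1 - ε x.1)))) ≫ ι' x.1 ≫ f
  have hrange : ∀ x : X', Set.range (l x) ⊆ Set.range O.ι := by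
    intro x
    rw [Scheme.Opens.range_ι]
    rintro _ ⟨b, rfl⟩
    show _ ∈ W₀
    refine (hpts x.1 _).2 ?_
    have := PrimeSpectrum.localization_away_comap_range (Localization.Away (1 - ε x.1)) (1 - ε x.1)
    exact this ▸ ⟨b, rfl⟩
  let g : ∀ x : X', L x ⟶ (O : Scheme.{u}) := fun x => IsOpenImmersion.lift O.ι (l x) (hrange x)
  refine triv_of_family g (fun x => ?_) (fun t => ?_) (fun x => ?_)
  · haveI := hopen x.1
    haveI : Flat (Spec.map (CommRingCat.ofHom (algebraMap (R x.1) (Localization.Away (1 - ε x.1))))) := by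
      rw [HasRingHomProperty.Spec_iff (P := @Flat)]
      exact RingHom.flat_algebraMap_iff.2 (IsLocalization.flat _ (Submonoid.powers (1 - ε x.1)))
    haveI : Flat (l x) := by
      show Flat (Spec.map _ ≫ ι' x.1 ≫ f)
      infer_instance
    haveI : Flat (g x ≫ O.ι) := by rw [IsOpenImmersion.lift_fac]; infer_instance
    exact MorphismProperty.of_postcomp (W' := @IsOpenImmersion) @Flat (g x) O.ι inferInstance inferInstance
  · obtain ⟨x, hx⟩ := f.surjective (O.ι t)
    have hxW : f x ∈ W₀ := by rw [hx]; exact t.2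
    obtain ⟨a, ha⟩ := hmem x
    have haB := (hpts x a).1 (by rw [ha]; exact hxW)
    rw [← PrimeSpectrum.localization_away_comap_range (Localization.Away (1 - ε x)) (1 - ε x)] at haB
    obtain ⟨b, hb⟩ := haB
    refine ⟨⟨x, hxW⟩, b, ?_⟩
    apply O.ι.isOpenEmbedding.injective
    rw [← Scheme.Hom.comp_apply, IsOpenImmersion.lift_fac, ← hx]
    exact (congrArg (fun z => f (ι' x z)) hb).trans (congrArg f ha)
  · rw [IsOpenImmersion.lift_fac]
    exact htriv x.1

end Groth.Agent.TrivLocus
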