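import Groth.Agent.MultLiftLib.Eq
import Groth.Agent.AlgSpLib.Sep

/-!
Triviality of a homomorphism over schemes over the base.
-/

set_option autoImplicit false

noncomputable section

universe u

open CategoryTheory CategoryTheory.Limits MonoidalCategory CartesianMonoidalCategory AlgebraicGeometry
open scoped MonObj

namespace Groth.Agent.TrivLocus

variable {S : Scheme.{u}} {H G : Over S} [GrpObj G]

/-- The morphism is trivial over `κ : T ⟶ S`. -/
def Triv (u : H ⟶ G) {T : Scheme.{u}} (κ : T ⟶ S) : Prop :=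
  ∀ (Y : Over S) (q : Y.left ⟶ T), q ≫ κ = Y.hom → ∀ h : Y ⟶ H, h ≫ u = 1

variable {u : H ⟶ G}

theorem Triv.comp {T T' : Scheme.{u}} {κ : T ⟶ S} (h : Triv u κ) (g : T' ⟶ T) : Triv u (g ≫ κ) :=
  fun Y q hq y => h Y (q ≫ g) (by rw [Category.assoc, hq]) y

theorem triv_of_family {T : Scheme.{u}} {κ : T ⟶ S} {I : Type u} {T' : I → Scheme.{u}} (g : ∀ i, T' i ⟶ T)
    (hflat : ∀ i, Flat (g i)) (hsurj : ∀ t : T, ∃ i, t ∈ Set.range (g i))
    (h : ∀ i, Triv u (g i ≫ κ)) : Triv u κ := by
  intro Y q hq y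
  let P : I → Scheme.{u} := fun i => pullback q (g i)
  let π : (∐ P) ⟶ Y.left := Sigma.desc fun i => pullback.fst q (g i)
  haveI : Flat π := IsZariskiLocalAtSource.sigmaDesc fun i => by
    haveI := hflat i
    infer_instance
  haveI : Surjective π := ⟨fun a => by
    obtain ⟨i, b, hb⟩ := hsurj (q a)
    obtain ⟨w, hw, -⟩ := Scheme.Pullback.exists_preimage_pullback (f := q) (g := g i) a b hb.symm
    refine ⟨Sigma.ι P i w, ?_⟩
    rw [← Scheme.Hom.comp_apply, Sigma.ι_desc]
    exact hw⟩
  haveI : Epi π := Flat.epi_of_flat_of_surjective π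
  refine Over.OverMorphism.ext ((cancel_epi π).1 (Sigma.hom_ext _ _ fun i => ?_))
  let Y' : Over S := Over.mk (pullback.fst q (g i) ≫ Y.hom)
  let e : Y' ⟶ Y := Over.homMk (pullback.fst _ _)
  have h1 := h i Y' (pullback.snd _ _) (by
    show pullback.snd _ _ ≫ g i ≫ κ = pullback.fst _ _ ≫ Y.hom
    rw [← pullback.condition_assoc, hq]) (e ≫ y)
  rw [Category.assoc, show (1 : Y' ⟶ G) = e ≫ 1 from (MonObj.comp_one e).symm] at h1
  rw [Sigma.ι_desc_assoc, Sigma.ι_desc_assoc]
  exact congrArg CommaMorphism.left h1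

/-- Descent along one flat surjective morphism. -/
theorem triv_of_flat_surjective {T T' : Scheme.{u}} {κ : T ⟶ S} (g : T' ⟶ T) [Flat g] [Surjective g]
    (h : Triv u (g ≫ κ)) : Triv u κ :=
  triv_of_family (fun _ : PUnit.{u + 1} => g) (fun _ => inferInstance)
    (fun t => ⟨PUnit.unit, g.surjective t⟩) (fun _ => h)

/-- Triviality at a point with values in a field only depends on the point. -/
theorem triv_field_iff {F : Type u} [Field F] (κ : Spec (CommRingCat.of F) ⟶ S) :
    Triv u κ ↔ Triv u (S.fromSpecResidueField (κ (IsLocalRing.closedPoint F))) := by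
  let d : Spec (CommRingCat.of F) ⟶ Spec (S.residueField (κ (IsLocalRing.closedPoint F))) :=
    Spec.map (S.descResidueField (Scheme.stalkClosedPointTo κ))
  have hd : d ≫ S.fromSpecResidueField _ = κ :=
    Scheme.descResidueField_stalkClosedPointTo_fromSpecResidueField F S κ
  constructor
  · intro h
    haveI : Flat d := by
      rw [HasRingHomProperty.Spec_iff (P := @Flat)]
      let ψ := (S.descResidueField (Scheme.stalkClosedPointTo κ)).hom
      letI := ψ.toAlgebra
      exact RingHom.flat_algebraMap_iff.2 (inferInstance :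
        Module.Flat (S.residueField (κ (IsLocalRing.closedPoint F))) F)
    haveI : Surjective d := ⟨fun t => ⟨IsLocalRing.closedPoint F,
      @Subsingleton.elim _ (inferInstanceAs (Subsingleton (PrimeSpectrum (S.residueField _)))) _ _⟩⟩
    exact triv_of_flat_surjective d (hd.symm ▸ h)
  · intro h
    exact hd ▸ h.comp d

theorem triv_bc_iff {T T' : Scheme.{u}} (p : T ⟶ S) (κ : T' ⟶ T) :
    Triv (S := T) (H := Red.bc p H) (G := Red.bc p G) ((Over.pullback p).map u) κ ↔ Triv u (κ ≫ p) := by
  let adj := Over.mapPullbackAdj p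
  have hone : ∀ Y : Over T, adj.homEquiv Y G 1 = 1 := fun Y => by
    have h := AlgGrp.Action.homEquiv_mul p (1 : (Over.map p).obj Y ⟶ G) 1
    rw [mul_one] at h
    exact mul_eq_left.1 h.symm
  constructor
  · intro h Y q hq y
    let Y' : Over T := Over.mk (q ≫ κ)
    let ε : (Over.map p).obj Y' ⟶ Y := Over.homMk (𝟙 Y.left) (by
      show 𝟙 Y.left ≫ Y.hom = (q ≫ κ) ≫ p
      rw [Category.id_comp, Category.assoc, hq])
    haveI : IsIso ((Over.forget S).map ε) := inferInstanceAs (IsIso (𝟙 Y.left))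
    haveI : IsIso ε := isIso_of_reflects_iso ε (Over.forget S)
    rw [← cancel_epi ε, MonObj.comp_one, ← Category.assoc]
    apply (adj.homEquiv Y' G).injective
    rw [adj.homEquiv_naturality_right, hone]
    exact h Y' q rfl (adj.homEquiv Y' H (ε ≫ y))
  · intro h Y q hq y
    obtain ⟨y₀, rfl⟩ := (adj.homEquiv Y H).surjective y
    exact (adj.homEquiv_naturality_right y₀ u).symm.trans
      ((congrArg (adj.homEquiv Y G) (h _ q (by rw [reassoc_of% hq]; rfl) y₀)).trans (hone Y))

theorem triv_iff_map_eq_one {T : Scheme.{u}} (p : T ⟶ S) :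
    Triv u p ↔ (Over.pullback p).map u = (1 : Red.bc p H ⟶ Red.bc p G) := by
  rw [← Category.id_comp p, ← triv_bc_iff, Category.id_comp]
  constructor
  · intro h
    have := h (Red.bc p H) (Red.bc p H).hom (Category.comp_id _) (𝟙 _)
    exact (Category.id_comp _).symm.trans this
  · intro h Y q _ y
    exact (congrArg (y ≫ ·) h).trans (MonObj.comp_one y)

end Groth.Agent.TrivLocus
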