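import Groth.Agent.TrivLocusLib.Basic
import Groth.Agent.NormCentLib.Chart

/-!
The trivial locus of a homomorphism from a diagonalisable group is clopen.
-/

set_option autoImplicit false

noncomputable section

universe u

open CategoryTheory CategoryTheory.Limits MonoidalCategory CartesianMonoidalCategory AlgebraicGeometry CoactBr
open scoped MonObj TensorProduct

namespace Groth.Agent.TrivLocus

open Groth.Agent.FreeAct (DA bas bas_apply)

attribute [local instance] CoactBr.braidedAlgSpecOf

variable {S : Scheme.{u}} {H G : Over S} [GrpObj H] [GrpObj G] {u : H ⟶ G}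

/-- The closed immersion cut out by the triviality of `u` is finitely presented. -/
def EqFinPres (u : H ⟶ G) : Prop :=
  LocallyOfFinitePresentation (pullback.fst (lift u 1).left (lift (𝟙 G) (𝟙 G)).left)

/-- Triviality along a split piece passes over nilpotent thickenings. -/
theorem triv_of_nilpotent [IsMonHom u] {R : Type u} [CommRing R] {M : Type} [AddCommGroup M]
    (p : Spec (CommRingCat.of R) ⟶ S) (w : sp R (DA R M) ≅ Red.bc p H) [IsMonHom w.hom] {I : Ideal R}
    (hI : IsNilpotent I) (h : Triv u (Spec.map (CommRingCat.ofHom (Ideal.Quotient.mk I)) ≫ p)) : Triv u p := by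
  let k : sp R (DA R M) ⟶ Red.bc p G := w.hom ≫ (Over.pullback p).map u
  haveI : IsMonHom (M := Red.bc p H) (N := Red.bc p G) ((Over.pullback p).map u) := DiagRep.isMonHom_bc_map p u
  haveI : IsMonHom k := inferInstanceAs (IsMonHom (w.hom ≫ (Over.pullback p).map u))
  haveI : IsMonHom (Iso.refl (sp R (DA R M))).hom := inferInstanceAs (IsMonHom (𝟙 (sp R (DA R M))))
  have hred := (triv_bc_iff p _).2 h
  have h1 := TrivNil.act_eq_snd_split (Iso.refl (sp R (DA R M))) (MultLift.transAction k) hI (fun Z g x q hq => by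
    rw [MultLift.lift_transAction, show g ≫ k = (g ≫ w.hom) ≫ (Over.pullback p).map u from (Category.assoc _ _ _).symm]
    exact (congrArg (· * x) (hred Z q hq (g ≫ w.hom))).trans (one_mul x))
  have h2 := MultLift.lift_transAction k (𝟙 (sp R (DA R M))) 1
  rw [h1, lift_snd, Category.id_comp, mul_one] at h2
  rw [triv_iff_map_eq_one]
  have h3 : w.inv ≫ k = (Over.pullback p).map u := w.inv_hom_id_assoc _
  rw [← h2, MonObj.comp_one] at h3
  exact h3.symm

set_option maxHeartbeats 1000000 in
/-- The ideal of triviality on a split piece. -/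
theorem exists_ideal [IsSeparated G.hom] (heq : EqFinPres u) {R : Type u} [CommRing R] {M : Type} [AddCommGroup M]
    (p : Spec (CommRingCat.of R) ⟶ S) (w : sp R (DA R M) ≅ Red.bc p H) :
    ∃ J : Ideal R, J.FG ∧ ∀ (T : Type u) [CommRing T] (ψ : R →+* T),
      Triv u (Spec.map (CommRingCat.ofHom ψ) ≫ p) ↔ J ≤ RingHom.ker ψ := by
  classical
  let D := DA R M
  let adj := Over.mapPullbackAdj p
  let a₀ : (Over.map p).obj (sp R D) ⟶ H := (adj.homEquiv (sp R D) H).symm w.hom
  haveI : IsClosedImmersion (lift (𝟙 G) (𝟙 G)).left := by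
    have e : (lift (𝟙 G) (𝟙 G)).left = pullback.diagonal G.hom := rfl
    rw [e]
    infer_instance
  let Z := pullback (lift u 1).left (lift (𝟙 G) (𝟙 G)).left
  let z : Z ⟶ H.left := pullback.fst _ _
  haveI : LocallyOfFinitePresentation z := heq
  -- factorisation through the equaliser
  have hZ : ∀ {Y : Over S} (h : Y ⟶ H), h ≫ u = 1 ↔ ∃ l : Y.left ⟶ Z, l ≫ z = h.left := by
    intro Y h
    constructor
    · intro he
      have he' : h ≫ lift u 1 = (1 : Y ⟶ G) ≫ lift (𝟙 G) (𝟙 G) := by
        rw [comp_lift, comp_lift, he, MonObj.comp_one, Category.comp_id]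
      exact ⟨pullback.lift h.left (1 : Y ⟶ G).left (congrArg CommaMorphism.left he'), pullback.lift_fst _ _ _⟩
    · rintro ⟨l, hl⟩
      let g : Y ⟶ G := Over.homMk (l ≫ pullback.snd _ _) (by
        have hd : (lift (𝟙 G) (𝟙 G)).left ≫ (G ⊗ G).hom = G.hom := Over.w _
        rw [← Over.w h, ← hl, Category.assoc, Category.assoc, ← hd, ← pullback.condition_assoc, Over.w (lift u 1)])
      have he : h ≫ lift u 1 = g ≫ lift (𝟙 G) (𝟙 G) := Over.OverMorphism.ext (by
        show h.left ≫ (lift u 1).left = (l ≫ pullback.snd _ _) ≫ (lift (𝟙 G) (𝟙 G)).left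
        rw [← hl, Category.assoc, Category.assoc, pullback.condition])
      have h1 := congrArg (· ≫ fst G G) he
      have h2 := congrArg (· ≫ snd G G) he
      simp only [Category.assoc, lift_fst, lift_snd, Category.comp_id, MonObj.comp_one] at h1 h2
      rw [h1, h2]
  haveI : IsClosedImmersion z := inferInstanceAs (IsClosedImmersion (pullback.fst _ _))
  let P := pullback z a₀.left
  let π : P ⟶ Spec (CommRingCat.of D) := pullback.snd _ _
  haveI : LocallyOfFinitePresentation π := inferInstanceAs (LocallyOfFinitePresentation (pullback.snd z a₀.left))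
  haveI : IsClosedImmersion π := inferInstanceAs (IsClosedImmersion (pullback.snd z a₀.left))
  obtain ⟨I, e, he⟩ := IsClosedImmersion.Spec_iff.1 ‹IsClosedImmersion π›
  have hI : I.FG := by
    have h1 : LocallyOfFinitePresentation (Spec.map (CommRingCat.ofHom (Ideal.Quotient.mk I))) := by
      rw [← Iso.inv_comp_eq] at he
      have h2 : e.inv ≫ π = Spec.map (CommRingCat.ofHom (Ideal.Quotient.mk I)) := by rw [he]
      rw [← h2]
      infer_instance
    rw [HasRingHomProperty.Spec_iff (P := @LocallyOfFinitePresentation)] at h1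
    haveI : Algebra.FinitePresentation D (D ⧸ I) := RingHom.finitePresentation_algebraMap.1 h1
    have h3 := Algebra.FinitePresentation.ker_fG_of_surjective (R := D) (A := D) (B := D ⧸ I)
      (Ideal.Quotient.mkₐ D I) Ideal.Quotient.mk_surjective
    convert h3 using 1
    exact (Ideal.Quotient.mkₐ_ker D I).symm
  obtain ⟨gens, hgens⟩ := hI
  let b := MonoidAlgebra.basis (Multiplicative M) R
  let J : Ideal R := Ideal.span (↑(gens.biUnion fun x => (b.repr x).support.image fun j => b.repr x j) : Set R)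
  refine ⟨J, ⟨_, rfl⟩, fun T _ ψ => ?_⟩
  letI : Algebra R T := ψ.toAlgebra
  let pL : T →ₐ[R] T ⊗[R] D := Algebra.TensorProduct.includeLeft
  let pR : D →ₐ[R] T ⊗[R] D := Algebra.TensorProduct.includeRight
  -- the universal point
  let Y₀ : Over S := (Over.map p).obj (sp R (T ⊗[R] D))
  let h₀ : Y₀ ⟶ H := (Over.map p).map (pt pR) ≫ a₀
  have hcrit : Triv u (Spec.map (CommRingCat.ofHom ψ) ≫ p) ↔ h₀ ≫ u = 1 := by
    constructor
    · intro h
      refine h Y₀ (pt pL).left ?_ h₀
      show (pt pL).left ≫ (sp R T).hom ≫ p = (sp R (T ⊗[R] D)).hom ≫ p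
      rw [← Category.assoc, Over.w]
    · intro h
      rw [← triv_bc_iff]
      intro Y q hq y
      let qT : Y ⟶ sp R T := Over.homMk q hq
      haveI := NormCent.isIso_U (R := R) T D
      let i := asIso (lift (pt pL) (pt pR))
      obtain ⟨l, hl⟩ : ∃ l : Y ⟶ sp R (T ⊗[R] D), l ≫ lift (pt pL) (pt pR) = lift qT (y ≫ w.inv) :=
        ⟨lift qT (y ≫ w.inv) ≫ i.inv, by rw [Category.assoc]; exact (congrArg _ i.inv_hom_id).trans (Category.comp_id _)⟩
      have hy : y = (l ≫ pt pR) ≫ w.hom := by
        have := congrArg (· ≫ snd _ _) hl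
        simp only [Category.assoc, lift_snd] at this
        rw [this]; simp
      have hw : w.hom = adj.homEquiv (sp R D) H a₀ := (Equiv.apply_symm_apply _ _).symm
      have hp : pt pR ≫ w.hom = adj.homEquiv _ H h₀ := by rw [hw]; exact (adj.homEquiv_naturality_left _ _).symm
      have h1 : adj.homEquiv (sp R (T ⊗[R] D)) H h₀ ≫ (Over.pullback p).map u = 1 := by
        have hone : adj.homEquiv (sp R (T ⊗[R] D)) G 1 = 1 := by
          have h := AlgGrp.Action.homEquiv_mul p (1 : (Over.map p).obj (sp R (T ⊗[R] D)) ⟶ G) 1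
          rw [mul_one] at h
          exact mul_eq_left.1 h.symm
        exact (adj.homEquiv_naturality_right h₀ u).symm.trans ((congrArg (adj.homEquiv _ G) h).trans hone)
      rw [hy, Category.assoc l, hp, Category.assoc]
      exact (congrArg (l ≫ ·) h1).trans (MonObj.comp_one l)
  rw [hcrit, hZ]
  have hh₀ : h₀.left = Spec.map (CommRingCat.ofHom pR.toRingHom) ≫ a₀.left := by
    show (pt pR).left ≫ a₀.left = _
    rw [pt_left]
    rfl
  have hfac : (∃ l : Y₀.left ⟶ Z, l ≫ z = h₀.left) ↔ I ≤ RingHom.ker pR.toRingHom := by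
    constructor
    · rintro ⟨l, hl⟩
      let m : Spec (CommRingCat.of (T ⊗[R] D)) ⟶ P := pullback.lift l (Spec.map (CommRingCat.ofHom pR.toRingHom))
        (hl.trans hh₀)
      obtain ⟨χ, hχ⟩ := Spec.map_surjective (m ≫ e.hom)
      have h1 : CommRingCat.ofHom (Ideal.Quotient.mk I) ≫ χ = CommRingCat.ofHom pR.toRingHom := by
        refine Spec.map_injective ((Spec.map_comp _ _).trans ?_)
        rw [hχ, Category.assoc, ← he]
        exact pullback.lift_snd _ _ _
      intro x hx
      rw [RingHom.mem_ker, ← CommRingCat.hom_ofHom pR.toRingHom, ← h1]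
      show χ.hom (Ideal.Quotient.mk I x) = 0
      rw [Ideal.Quotient.eq_zero_iff_mem.2 hx, map_zero]
    · intro hx
      refine ⟨Spec.map (CommRingCat.ofHom (Ideal.Quotient.lift I pR.toRingHom hx)) ≫ e.inv ≫ pullback.fst _ _, ?_⟩
      rw [Category.assoc, Category.assoc, pullback.condition, hh₀, ← Category.assoc (e.inv)]
      have h1 : e.inv ≫ π = Spec.map (CommRingCat.ofHom (Ideal.Quotient.mk I)) := by
        rw [Iso.inv_comp_eq, he]
      rw [show e.inv ≫ pullback.snd z a₀.left = _ from h1]
      exact (Spec.map_comp_assoc _ _ _).symm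
  rw [hfac, ← hgens]
  show Submodule.span D _ ≤ _ ↔ Ideal.span _ ≤ _
  rw [Submodule.span_le, Ideal.span_le]
  let bT := Algebra.TensorProduct.basis T b
  constructor
  · intro h r hr
    obtain ⟨x, hx, hj⟩ := Finset.mem_biUnion.1 hr
    obtain ⟨j, -, rfl⟩ := Finset.mem_image.1 hj
    have := congrArg (fun y => bT.repr y j) (show pR x = 0 from h hx)
    simp only [bT, pR, Algebra.TensorProduct.includeRight_apply, Algebra.TensorProduct.basis_repr_tmul,
      one_smul, Finsupp.mapRange_apply, map_zero, Finsupp.zero_apply] at this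
    exact this
  · intro h x hx
    show pR x = 0
    refine bT.ext_elem fun j => ?_
    simp only [bT, pR, Algebra.TensorProduct.includeRight_apply, Algebra.TensorProduct.basis_repr_tmul,
      one_smul, Finsupp.mapRange_apply, map_zero, Finsupp.zero_apply]
    by_cases hj : j ∈ (b.repr x).support
    · exact h (Finset.mem_coe.2 (Finset.mem_biUnion.2 ⟨x, hx, Finset.mem_image.2 ⟨j, hj, rfl⟩⟩))
    · rw [Finsupp.notMem_support_iff.1 hj, map_zero]

/-- On a split piece the trivial locus is the zero locus of an idempotent. -/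
theorem exists_idem [IsSeparated G.hom] [IsMonHom u] (heq : EqFinPres u) {R : Type u} [CommRing R] {M : Type}
    [AddCommGroup M] (p : Spec (CommRingCat.of R) ⟶ S) (w : sp R (DA R M) ≅ Red.bc p H)
    (hsplit : ∀ I : Ideal R, ∃ w' : sp (R ⧸ I) (DA (R ⧸ I) M) ≅
      Red.bc (Spec.map (CommRingCat.ofHom (Ideal.Quotient.mk I)) ≫ p) H, IsMonHom w'.hom) :
    ∃ e : R, IsIdempotentElem e ∧ ∀ (T : Type u) [CommRing T] (ψ : R →+* T),
      Triv u (Spec.map (CommRingCat.ofHom ψ) ≫ p) ↔ ψ e = 0 := by
  obtain ⟨J, hJ, hJT⟩ := exists_ideal heq p w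
  have hle : J ≤ J * J := by
    obtain ⟨w', hw'⟩ := hsplit (J * J)
    haveI := hw'
    have hnil : IsNilpotent (J.map (Ideal.Quotient.mk (J * J))) :=
      ⟨2, by rw [pow_two, ← Ideal.map_mul, Ideal.map_quotient_self]; rfl⟩
    have h1 := triv_of_nilpotent (u := u) (Spec.map (CommRingCat.ofHom (Ideal.Quotient.mk (J * J))) ≫ p) w' hnil (by
      rw [← Spec.map_comp_assoc]
      exact (hJT _ ((Ideal.Quotient.mk (J.map (Ideal.Quotient.mk (J * J)))).comp (Ideal.Quotient.mk (J * J)))).2
        (fun r hr => Ideal.Quotient.eq_zero_iff_mem.2 (Ideal.mem_map_of_mem _ hr)))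
    have h2 := (hJT _ (Ideal.Quotient.mk (J * J))).1 h1
    rwa [Ideal.mk_ker] at h2
  obtain ⟨e, he, heJ⟩ := (Ideal.isIdempotentElem_iff_of_fg J hJ).1 (le_antisymm Ideal.mul_le_left hle)
  refine ⟨e, he, fun T _ ψ => ?_⟩
  rw [hJT T ψ, heJ, Ideal.span_le, Set.singleton_subset_iff]
  rfl

end Groth.Agent.TrivLocus
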